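import Mathlib
import Groth.Prelude
import Groth.Agent.S9812
import Groth.Agent.Lib.Lead.GUnib3
import Groth.Agent.Lib.Helper7.SHens.Normal

/-!
# Normal local subrings of essentially étale local algebras over a normal local domain

Let `A` be a Noetherian normal local domain and `T` the localization of an étale `A`-algebra at a
prime, assumed to be a normal local domain with `A → T` local.  An `A`-subalgebra `M ⊆ T` which is
"integrally closed in `T`" and closed under inverses of units of `T` is an essentially étale local
`A`-algebra, and `M` is saturated in `T` with respect to divisibility.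
-/

set_option linter.style.haveILetI false
set_option linter.unusedVariables false
set_option linter.unusedSectionVars false
set_option autoImplicit false
set_option backward.isDefEq.respectTransparency.types false
set_option backward.isDefEq.respectTransparency false
set_option synthInstance.maxHeartbeats 400000
set_option maxHeartbeats 1600000

open Polynomial IsLocalRing TensorProduct

namespace Groth.Agent.Helper7.NormInt

universe u

open Groth.Agent.Helper7.SHens (dvd_of_eval_scaleRoots_eq_zero isIntegrallyClosed_of_forall_dvd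
  map_eval_scaleRoots)

/-- Localizations of integrally closed domains are geometrically unibranch. -/
theorem isGeomUnibranch_atPrime (R : Type u) [CommRing R] [IsDomain R] [IsIntegrallyClosed R]
    (p : Ideal R) [p.IsPrime] : CAlg2.IsGeomUnibranch (Localization.AtPrime p) := by
  haveI : IsDomain (Localization.AtPrime p) :=
    IsLocalization.isDomain_localization p.primeCompl_le_nonZeroDivisors
  haveI : IsIntegrallyClosed (Localization.AtPrime p) :=
    isIntegrallyClosed_of_isLocalization (R := R) (S := Localization.AtPrime p) p.primeCompl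
      p.primeCompl_le_nonZeroDivisors
  exact Groth.Agent.S9812.result _

/-- Formal unramifiedness descends along a faithfully flat formally étale map. -/
theorem formallyUnramified_descent (A C T : Type u) [CommRing A] [CommRing C] [CommRing T]
    [Algebra A C] [Algebra A T] [Algebra C T] [IsScalarTower A C T]
    [Algebra.FormallyEtale C T] [Module.FaithfullyFlat C T] [Algebra.FormallyUnramified A T] :
    Algebra.FormallyUnramified A C := by
  constructor
  have e := KaehlerDifferential.tensorKaehlerEquivOfFormallyEtale A C T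
  haveI : Subsingleton (T ⊗[C] KaehlerDifferential A C) := e.toEquiv.subsingleton
  exact Module.FaithfullyFlat.lTensor_reflects_triviality C T (KaehlerDifferential A C)

section Defs

variable {A : Type u} [CommRing A] {T : Type u} [CommRing T] [Algebra A T]

/-- The integral part of a subalgebra. -/
def A2 (M : Subalgebra A T) : Subalgebra A T := integralClosure A T ⊓ M

theorem mem_A2 {M : Subalgebra A T} {x : T} : x ∈ A2 M ↔ IsIntegral A x ∧ x ∈ M := by
  rw [A2, Algebra.mem_inf, mem_integralClosure_iff]

variable [IsLocalRing T]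

/-- The prime of a subalgebra under the maximal ideal. -/
def nn (R₂ : Subalgebra A T) : Ideal R₂ := (maximalIdeal T).comap (algebraMap R₂ T)

instance (R₂ : Subalgebra A T) : (nn R₂).IsPrime := Ideal.comap_isPrime _ _

theorem mem_nn {R₂ : Subalgebra A T} {x : R₂} : x ∈ nn R₂ ↔ (x : T) ∈ maximalIdeal T := Iff.rfl

theorem isUnit_of_mem_primeCompl (R₂ : Subalgebra A T) (y : (nn R₂).primeCompl) :
    IsUnit (algebraMap R₂ T y) :=
  IsLocalRing.notMem_maximalIdeal.mp y.2

/-- The canonical map from the localization of a subalgebra at `nn`. -/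
noncomputable def psi (R₂ : Subalgebra A T) : Localization.AtPrime (nn R₂) →+* T :=
  IsLocalization.lift (M := (nn R₂).primeCompl) (g := algebraMap R₂ T)
    (isUnit_of_mem_primeCompl R₂)

theorem psi_algebraMap (R₂ : Subalgebra A T) (x : R₂) :
    psi R₂ (algebraMap R₂ (Localization.AtPrime (nn R₂)) x) = (x : T) :=
  IsLocalization.lift_eq _ _

end Defs

section Core

variable {A : Type u} [CommRing A] [IsLocalRing A] [IsDomain A] [IsIntegrallyClosed A]
  [IsNoetherianRing A]
variable {E : Type u} [CommRing E] [Algebra A E] [Algebra.Etale A E] (𝔮 : Ideal E) [𝔮.IsPrime]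
variable (T : Type u) [CommRing T] [Algebra E T] [IsLocalization.AtPrime T 𝔮] [Algebra A T]
  [IsScalarTower A E T] [IsDomain T] [IsIntegrallyClosed T] [IsLocalRing T]
  [IsLocalHom (algebraMap A T)]

include 𝔮 in
theorem flat_base : Module.Flat A T := by
  haveI : Module.Flat E T := IsLocalization.flat T 𝔮.primeCompl
  exact Module.Flat.trans A E T

include 𝔮 in
theorem injective_base : Function.Injective (algebraMap A T) := by
  haveI : Module.Flat A T := flat_base 𝔮 T
  haveI := Module.FaithfullyFlat.of_flat_of_isLocalHom (A := A) (B := T)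
  exact FaithfulSMul.algebraMap_injective A T

include 𝔮 in
theorem formallyUnramified_base : Algebra.FormallyUnramified A T := by
  haveI : Algebra.FormallyUnramified E T :=
    Algebra.FormallyUnramified.of_isLocalization (Rₘ := T) 𝔮.primeCompl
  exact Algebra.FormallyUnramified.comp A E T

include 𝔮 in
theorem finite_and_algebraic :
    Module.Finite A (integralClosure A T) ∧ Algebra.IsAlgebraic A T := by
  have hinjAT : Function.Injective (algebraMap A T) := injective_base 𝔮 T
  have hinjTL : Function.Injective (algebraMap T (FractionRing T)) := IsFractionRing.injective T _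
  have hinjAL : Function.Injective (algebraMap A (FractionRing T)) := by
    rw [IsScalarTower.algebraMap_eq A T (FractionRing T)]
    exact hinjTL.comp hinjAT
  haveI : FaithfulSMul A (FractionRing T) :=
    (faithfulSMul_iff_algebraMap_injective A _).mpr hinjAL
  letI : Algebra (FractionRing A) (FractionRing T) := FractionRing.liftAlgebra A (FractionRing T)
  haveI : IsScalarTower A (FractionRing A) (FractionRing T) :=
    FractionRing.isScalarTower_liftAlgebra A (FractionRing T)
  haveI : Algebra.FormallyUnramified A T := formallyUnramified_base 𝔮 T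
  haveI : Algebra.FormallyUnramified T (FractionRing T) :=
    Algebra.FormallyUnramified.of_isLocalization (Rₘ := FractionRing T) (nonZeroDivisors T)
  haveI : Algebra.FormallyUnramified A (FractionRing T) :=
    Algebra.FormallyUnramified.comp A T (FractionRing T)
  haveI : Algebra.FormallyUnramified (FractionRing A) (FractionRing T) :=
    Algebra.FormallyUnramified.of_restrictScalars A (FractionRing A) (FractionRing T)
  haveI : Algebra.EssFiniteType E T := Algebra.EssFiniteType.of_isLocalization T 𝔮.primeCompl
  haveI : Algebra.EssFiniteType A T := Algebra.EssFiniteType.comp A E T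
  haveI : Algebra.EssFiniteType T (FractionRing T) :=
    Algebra.EssFiniteType.of_isLocalization (FractionRing T) (nonZeroDivisors T)
  haveI : Algebra.EssFiniteType A (FractionRing T) :=
    Algebra.EssFiniteType.comp A T (FractionRing T)
  haveI : Algebra.EssFiniteType (FractionRing A) (FractionRing T) :=
    Algebra.EssFiniteType.of_comp A (FractionRing A) (FractionRing T)
  haveI : Module.Finite (FractionRing A) (FractionRing T) :=
    Algebra.FormallyUnramified.finite_of_free (FractionRing A) (FractionRing T)
  haveI : Algebra.IsSeparable (FractionRing A) (FractionRing T) :=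
    Algebra.FormallyUnramified.isSeparable (FractionRing A) (FractionRing T)
  haveI hfin : Module.Finite A (integralClosure A (FractionRing T)) :=
    IsIntegralClosure.finite A (FractionRing A) (FractionRing T)
      (integralClosure A (FractionRing T))
  refine ⟨?_, ?_⟩
  · let f : integralClosure A T →ₐ[A] integralClosure A (FractionRing T) :=
      (IsScalarTower.toAlgHom A T (FractionRing T)).mapIntegralClosure
    have hf : Function.Injective f := by
      intro x y hxy
      apply Subtype.ext
      apply hinjTL
      exact congrArg Subtype.val hxy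
    haveI : IsNoetherian A (integralClosure A (FractionRing T)) :=
      isNoetherian_of_isNoetherianRing_of_finite A _
    exact Module.Finite.of_injective f.toLinearMap hf
  · constructor
    intro x
    have h1 : IsAlgebraic (FractionRing A) (algebraMap T (FractionRing T) x) :=
      (Algebra.IsAlgebraic.of_finite (FractionRing A) (FractionRing T)).isAlgebraic _
    have h2 : IsAlgebraic A (algebraMap T (FractionRing T) x) :=
      (IsFractionRing.isAlgebraic_iff A (FractionRing A) (FractionRing T)).mpr h1
    exact (isAlgebraic_algebraMap_iff hinjTL).mp h2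

variable {T}

omit [IsLocalRing A] [IsIntegrallyClosed A] [IsNoetherianRing A] [IsLocalRing T]
  [IsLocalHom (algebraMap A T)] in
theorem isIntegrallyClosed_A2 (M : Subalgebra A T)
    (hM1 : ∀ t b : T, b ∈ M → b ≠ 0 → t * b ∈ M → IsIntegral A t → t ∈ M) :
    IsIntegrallyClosed (A2 M) := by
  apply isIntegrallyClosed_of_forall_dvd
  intro p hp c d hd h
  have hd' : (d : T) ≠ 0 := fun h0 => hd (Subtype.ext h0)
  have h1 : ((p.map (algebraMap (A2 M) T)).scaleRoots (d : T)).eval (c : T) = 0 := by
    have h2 := congrArg (algebraMap (A2 M) T) h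
    rw [map_eval_scaleRoots (algebraMap (A2 M) T) p hp, map_zero] at h2
    exact h2
  obtain ⟨t, ht⟩ := dvd_of_eval_scaleRoots_eq_zero (p.map (algebraMap (A2 M) T)) (hp.map _)
    (c : T) (d : T) hd' h1
  have h3 := Polynomial.scaleRoots_eval₂_mul (p := p.map (algebraMap (A2 M) T)) (RingHom.id T) t
    (d : T)
  simp only [RingHom.id_apply, Polynomial.eval₂_id] at h3
  rw [← ht, h1] at h3
  have h4 : (p.map (algebraMap (A2 M) T)).eval t = 0 := by
    rcases mul_eq_zero.mp h3.symm with h5 | h5
    · exact absurd (eq_zero_of_pow_eq_zero h5) hd'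
    · exact h5
  have hint2 : IsIntegral (A2 M) t := ⟨p, hp, (Polynomial.eval_map _ _).symm.trans h4⟩
  haveI : Algebra.IsIntegral A (A2 M) :=
    ⟨fun x => (isIntegral_algHom_iff (A2 M).val Subtype.val_injective).mp (mem_A2.mp x.2).1⟩
  have hintA : IsIntegral A t := isIntegral_trans t hint2
  have htM : t ∈ M :=
    hM1 t (d : T) (mem_A2.mp d.2).2 hd' (by rw [mul_comm, ← ht]; exact (mem_A2.mp c.2).2) hintA
  exact ⟨⟨t, mem_A2.mpr ⟨hintA, htM⟩⟩, Subtype.ext ht⟩

include 𝔮 in
theorem formallyEtale_flat_over (R₂ : Subalgebra A T) [IsIntegrallyClosed R₂] :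
    Algebra.FormallyEtale R₂ T ∧ Module.Flat R₂ T := by
  classical
  obtain ⟨t, ht⟩ := (Algebra.FiniteType.out : (⊤ : Subalgebra A E).FG)
  let B : Subalgebra R₂ T := Algebra.adjoin R₂ ((algebraMap E T) '' (t : Set E))
  have hBfg : B.FG := ⟨t.image (algebraMap E T), by rw [Finset.coe_image]⟩
  have hB : ∀ e : E, algebraMap E T e ∈ B := by
    intro e
    have he : e ∈ Algebra.adjoin A (t : Set E) := by rw [ht]; exact Algebra.mem_top
    induction he using Algebra.adjoin_induction with
    | mem x hx => exact Algebra.subset_adjoin ⟨x, hx, rfl⟩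
    | algebraMap a =>
      rw [← IsScalarTower.algebraMap_apply A E T, IsScalarTower.algebraMap_apply A R₂ T]
      exact Subalgebra.algebraMap_mem B _
    | add x y _ _ hx hy => rw [map_add]; exact add_mem hx hy
    | mul x y _ _ hx hy => rw [map_mul]; exact mul_mem hx hy
  haveI : Algebra.FiniteType R₂ B := (Subalgebra.fg_iff_finiteType B).mp hBfg
  let q : Ideal B := (maximalIdeal T).comap (algebraMap B T)
  haveI hq : q.IsPrime := Ideal.comap_isPrime _ _
  haveI hlo : q.LiesOver (nn R₂) := ⟨by
    show nn R₂ = q.comap (algebraMap R₂ B)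
    rw [Ideal.comap_comap, ← IsScalarTower.algebraMap_eq R₂ B T]
    rfl⟩
  have hloc : IsLocalization.AtPrime T q := by
    refine (isLocalization_iff q.primeCompl T).mpr ⟨?_, ?_, ?_⟩
    · rintro ⟨y, hy⟩
      exact IsLocalRing.notMem_maximalIdeal.mp (fun h => hy h)
    · intro z
      obtain ⟨⟨e, s⟩, hes⟩ := IsLocalization.surj 𝔮.primeCompl z
      refine ⟨⟨⟨algebraMap E T e, hB e⟩, ⟨⟨algebraMap E T s, hB s⟩, ?_⟩⟩, hes⟩
      intro h
      have h1 : IsUnit (algebraMap E T (s : E)) := IsLocalization.map_units T s
      exact (IsLocalRing.mem_maximalIdeal _).mp h h1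
    · intro x y hxy
      exact ⟨1, by rw [Subtype.ext hxy]⟩
  haveI := hloc
  haveI : Algebra.FormallyUnramified A T := formallyUnramified_base 𝔮 T
  haveI : Algebra.FormallyUnramified R₂ T := Algebra.FormallyUnramified.of_restrictScalars A R₂ T
  have e1 : Localization.AtPrime q ≃ₐ[B] T := IsLocalization.algEquiv q.primeCompl _ _
  haveI : Algebra.IsUnramifiedAt R₂ q :=
    Algebra.FormallyUnramified.of_equiv (e1.restrictScalars R₂).symm
  have hgu := isGeomUnibranch_atPrime R₂ (nn R₂)
  have hinjB : Function.Injective (algebraMap R₂ B) := by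
    intro x y hxy
    apply Subtype.ext
    exact congrArg (fun z : B => (z : T)) hxy
  have hinj : Function.Injective (Localization.localRingHom (nn R₂) q (algebraMap R₂ B)
      (q.over_def (nn R₂))) :=
    IsLocalization.map_injective_of_injective' (nn R₂).primeCompl B (Localization.AtPrime q) _
      (fun h => h (Ideal.zero_mem q)) hinjB
  obtain ⟨g, hg, hEt⟩ := Groth.Agent.Lead.GUnib.S2136_main q (nn R₂) hgu hinj
  haveI := hEt
  have hgu' : IsUnit (algebraMap B T g) := IsLocalRing.notMem_maximalIdeal.mp hg
  letI : Algebra (Localization.Away g) T := (IsLocalization.Away.lift g hgu').toAlgebra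
  haveI : IsScalarTower B (Localization.Away g) T :=
    IsScalarTower.of_algebraMap_eq (fun x => (IsLocalization.Away.lift_eq g hgu' x).symm)
  haveI : IsScalarTower R₂ (Localization.Away g) T := IsScalarTower.of_algebraMap_eq (fun x => by
    rw [IsScalarTower.algebraMap_apply R₂ B (Localization.Away g),
      ← IsScalarTower.algebraMap_apply B (Localization.Away g) T,
      ← IsScalarTower.algebraMap_apply R₂ B T])
  haveI hloc2 : IsLocalization (q.primeCompl.map (algebraMap B (Localization.Away g))) T :=
    IsLocalization.isLocalization_of_submonoid_le (Localization.Away g) T (Submonoid.powers g)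
      q.primeCompl (Submonoid.powers_le.mpr hg)
  haveI : Algebra.FormallyEtale (Localization.Away g) T :=
    Algebra.FormallyEtale.of_isLocalization (Rₘ := T)
      (q.primeCompl.map (algebraMap B (Localization.Away g)))
  haveI : Module.Flat (Localization.Away g) T :=
    IsLocalization.flat T (q.primeCompl.map (algebraMap B (Localization.Away g)))
  exact ⟨Algebra.FormallyEtale.comp R₂ (Localization.Away g) T,
    Module.Flat.trans R₂ (Localization.Away g) T⟩

include 𝔮 in
theorem base_package (R₂ : Subalgebra A T) [IsIntegrallyClosed R₂] :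
    Function.Injective (psi R₂) ∧
      (∀ (a b : Localization.AtPrime (nn R₂)) (x : T), psi R₂ a = x * psi R₂ b → ∃ y, a = y * b) ∧
      Algebra.FormallyUnramified A (Localization.AtPrime (nn R₂)) := by
  obtain ⟨hfe, hflat⟩ : Algebra.FormallyEtale R₂ T ∧ Module.Flat R₂ T :=
    formallyEtale_flat_over 𝔮 R₂
  haveI := hfe
  haveI := hflat
  letI : Algebra (Localization.AtPrime (nn R₂)) T := (psi R₂).toAlgebra
  haveI : IsScalarTower R₂ (Localization.AtPrime (nn R₂)) T :=
    IsScalarTower.of_algebraMap_eq (fun x => (psi_algebraMap R₂ x).symm)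
  haveI : IsScalarTower A (Localization.AtPrime (nn R₂)) T :=
    IsScalarTower.of_algebraMap_eq (fun a => by
      rw [IsScalarTower.algebraMap_apply A R₂ (Localization.AtPrime (nn R₂))]
      show _ = psi R₂ _
      rw [psi_algebraMap]
      rfl)
  haveI : Module.Flat (Localization.AtPrime (nn R₂)) T :=
    (Module.flat_iff_of_isLocalization (Localization.AtPrime (nn R₂)) (nn R₂).primeCompl T).mpr
      hflat
  haveI : IsLocalHom (algebraMap (Localization.AtPrime (nn R₂)) T) := by
    constructor
    intro z hz
    obtain ⟨a, s, rfl⟩ := IsLocalization.exists_mk'_eq (nn R₂).primeCompl z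
    rw [IsLocalization.AtPrime.isUnit_mk'_iff (Localization.AtPrime (nn R₂)) (nn R₂)]
    show a ∉ nn R₂
    intro ha
    have h1 : psi R₂ (IsLocalization.mk' _ a s) * ((s : R₂) : T) = (a : T) := by
      rw [← psi_algebraMap R₂ s, ← map_mul, IsLocalization.mk'_spec, psi_algebraMap]
    have h2 : IsUnit ((a : R₂) : T) := by
      rw [← h1]
      exact hz.mul (isUnit_of_mem_primeCompl R₂ s)
    exact (IsLocalRing.mem_maximalIdeal _).mp ha h2
  haveI hff : Module.FaithfullyFlat (Localization.AtPrime (nn R₂)) T :=
    Module.FaithfullyFlat.of_flat_of_isLocalHom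
  haveI : Algebra.FormallyEtale (Localization.AtPrime (nn R₂)) T :=
    Algebra.FormallyEtale.localization_base (R := R₂) (Rₘ := Localization.AtPrime (nn R₂))
      (Sₘ := T) (nn R₂).primeCompl
  haveI : Algebra.FormallyUnramified A T := formallyUnramified_base 𝔮 T
  refine ⟨FaithfulSMul.algebraMap_injective (Localization.AtPrime (nn R₂)) T, ?_,
    formallyUnramified_descent A _ T⟩
  intro a b x hab
  have h1 : psi R₂ a ∈ (Ideal.span {b}).map (algebraMap (Localization.AtPrime (nn R₂)) T) := by
    rw [hab]
    exact Ideal.mul_mem_left _ _ (Ideal.mem_map_of_mem _ (Ideal.mem_span_singleton_self b))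
  have h2 : a ∈ ((Ideal.span {b}).map (algebraMap (Localization.AtPrime (nn R₂)) T)).comap
      (algebraMap (Localization.AtPrime (nn R₂)) T) := h1
  rw [Ideal.comap_map_eq_self_of_faithfullyFlat] at h2
  obtain ⟨y, hy⟩ := Ideal.mem_span_singleton'.mp h2
  exact ⟨y, hy.symm⟩

include 𝔮 in
theorem core (M : Subalgebra A T)
    (hM1 : ∀ t b : T, b ∈ M → b ≠ 0 → t * b ∈ M → IsIntegral A t → t ∈ M)
    (hM2 : ∀ t ∈ M, IsUnit t → ∃ u ∈ M, t * u = 1) :
    EGA4loc.IsEssentiallyEtale A M ∧ IsLocalRing M ∧
      ∀ x b : T, b ∈ M → b ≠ 0 → x * b ∈ M → x ∈ M := by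
  classical
  obtain ⟨hfin, halg⟩ : Module.Finite A (integralClosure A T) ∧ Algebra.IsAlgebraic A T :=
    finite_and_algebraic 𝔮 T
  haveI := hfin
  haveI := halg
  haveI hic : IsIntegrallyClosed (A2 M) := isIntegrallyClosed_A2 M hM1
  obtain ⟨hψinj, hψsat, hunr⟩ : Function.Injective (psi (A2 M)) ∧
      (∀ (a b : Localization.AtPrime (nn (A2 M))) (x : T),
        psi (A2 M) a = x * psi (A2 M) b → ∃ y, a = y * b) ∧
      Algebra.FormallyUnramified A (Localization.AtPrime (nn (A2 M))) := base_package 𝔮 (A2 M)
  have hinjAT : Function.Injective (algebraMap A T) := injective_base 𝔮 T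
  haveI : IsNoetherian A (integralClosure A T) := isNoetherian_of_isNoetherianRing_of_finite A _
  have hle : A2 M ≤ integralClosure A T := inf_le_left
  haveI : Module.Finite A (A2 M) :=
    Module.Finite.of_injective (Subalgebra.inclusion hle).toLinearMap
      (Subalgebra.inclusion_injective hle)
  haveI : Algebra.FiniteType A (A2 M) := inferInstance
  have hcomap : (nn (A2 M)).comap (algebraMap A (A2 M)) = maximalIdeal A := by
    have h1 : (maximalIdeal T).comap (algebraMap A T) = maximalIdeal A :=
      ((IsLocalRing.local_hom_TFAE (algebraMap A T)).out 0 4).mp ‹IsLocalHom (algebraMap A T)›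
    rw [← h1]
    show ((maximalIdeal T).comap (algebraMap (A2 M) T)).comap (algebraMap A (A2 M)) = _
    rw [Ideal.comap_comap, ← IsScalarTower.algebraMap_eq A (A2 M) T]
  haveI : (nn (A2 M)).LiesOver (maximalIdeal A) := ⟨hcomap.symm⟩
  haveI : Algebra.IsUnramifiedAt A (nn (A2 M)) := hunr
  have hgu := isGeomUnibranch_atPrime A (maximalIdeal A)
  have hinjA2 : Function.Injective (algebraMap A (A2 M)) := by
    intro x y hxy
    apply hinjAT
    exact congrArg Subtype.val hxy
  have hinj : Function.Injective (Localization.localRingHom (maximalIdeal A) (nn (A2 M))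
      (algebraMap A (A2 M)) ((nn (A2 M)).over_def (maximalIdeal A))) :=
    IsLocalization.map_injective_of_injective' (maximalIdeal A).primeCompl (A2 M)
      (Localization.AtPrime (nn (A2 M))) _ (fun h => h (Ideal.zero_mem _)) hinjA2
  obtain ⟨g, hg, hEt⟩ := Groth.Agent.Lead.GUnib.S2136_main (nn (A2 M)) (maximalIdeal A) hgu hinj
  -- the range of `psi` is `M`
  have hrange : ∀ x : T, x ∈ M ↔ ∃ z, psi (A2 M) z = x := by
    intro x
    constructor
    · intro hx
      obtain ⟨c, hc0, hcint⟩ := (Algebra.IsAlgebraic.isAlgebraic (R := A) x).exists_integral_multiple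
      have hcx : c • x ∈ M := M.smul_mem hx c
      let a : A2 M := ⟨c • x, mem_A2.mpr ⟨hcint, hcx⟩⟩
      have h1 : psi (A2 M) (algebraMap _ _ a) =
          x * psi (A2 M) (algebraMap _ _ (algebraMap A (A2 M) c)) := by
        rw [psi_algebraMap, psi_algebraMap]
        show c • x = x * algebraMap A T c
        rw [Algebra.smul_def, mul_comm]
      obtain ⟨y, hy⟩ := hψsat _ _ x h1
      refine ⟨y, ?_⟩
      have h2 := congrArg (psi (A2 M)) hy
      rw [h1, map_mul] at h2
      have hne : psi (A2 M) (algebraMap _ _ (algebraMap A (A2 M) c)) ≠ 0 := by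
        rw [psi_algebraMap]
        show algebraMap A T c ≠ 0
        exact fun h0 => hc0 (hinjAT (h0.trans (map_zero _).symm))
      exact (mul_right_cancel₀ hne h2).symm
    · rintro ⟨z, rfl⟩
      obtain ⟨a, s, rfl⟩ := IsLocalization.exists_mk'_eq (nn (A2 M)).primeCompl z
      have h1 : psi (A2 M) (IsLocalization.mk' _ a s) * ((s : A2 M) : T) = (a : T) := by
        rw [← psi_algebraMap (A2 M) s, ← map_mul, IsLocalization.mk'_spec, psi_algebraMap]
      have hsu : IsUnit (((s : A2 M) : T)) := isUnit_of_mem_primeCompl (A2 M) s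
      obtain ⟨u, huM, hu⟩ := hM2 _ (mem_A2.mp (s : A2 M).2).2 hsu
      have h2 : psi (A2 M) (IsLocalization.mk' _ a s) = (a : T) * u := by
        calc psi (A2 M) (IsLocalization.mk' _ a s)
            = psi (A2 M) (IsLocalization.mk' _ a s) * (((s : A2 M) : T) * u) := by
              rw [hu, mul_one]
          _ = (a : T) * u := by rw [← mul_assoc, h1]
      rw [h2]
      exact M.mul_mem (mem_A2.mp a.2).2 huM
  -- the algebra isomorphism
  have hcomm : ∀ a : A, psi (A2 M) (algebraMap A (Localization.AtPrime (nn (A2 M))) a) =
      algebraMap A T a := by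
    intro a
    rw [IsScalarTower.algebraMap_apply A (A2 M) (Localization.AtPrime (nn (A2 M))), psi_algebraMap]
    rfl
  let ψA : Localization.AtPrime (nn (A2 M)) →ₐ[A] T := { psi (A2 M) with commutes' := hcomm }
  have hψA : ∀ z, ψA z = psi (A2 M) z := fun _ => rfl
  have hR : ψA.range = M := by
    ext x
    rw [AlgHom.mem_range, hrange]
    rfl
  let e0 : Localization.AtPrime (nn (A2 M)) ≃ₐ[A] M :=
    (AlgEquiv.ofInjective ψA hψinj).trans (Subalgebra.equivOfEq _ _ hR)
  have hsatT : ∀ x b : T, b ∈ M → b ≠ 0 → x * b ∈ M → x ∈ M := by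
    intro x b hb hb0 hxb
    obtain ⟨zb, rfl⟩ := (hrange b).mp hb
    obtain ⟨za, hza⟩ := (hrange _).mp hxb
    obtain ⟨y, hy⟩ := hψsat za zb x hza
    have h2 := congrArg (psi (A2 M)) hy
    rw [hza, map_mul] at h2
    have h3 : x = psi (A2 M) y := mul_right_cancel₀ hb0 h2
    exact (hrange x).mpr ⟨y, h3.symm⟩
  refine ⟨?_, e0.toRingEquiv.isLocalRing, hsatT⟩
  -- essentially étale
  have hdisj : Disjoint ((Submonoid.powers g : Submonoid (A2 M)) : Set (A2 M))
      (nn (A2 M) : Set (A2 M)) :=
    (Ideal.disjoint_powers_iff_notMem_of_isPrime g).mpr hg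
  have hPprime : ((nn (A2 M)).map (algebraMap (A2 M) (Localization.Away g))).IsPrime :=
    IsLocalization.isPrime_of_isPrime_disjoint (Submonoid.powers g) (Localization.Away g) _
      inferInstance hdisj
  haveI := hPprime
  have hPc : ((nn (A2 M)).map (algebraMap (A2 M) (Localization.Away g))).comap
      (algebraMap (A2 M) (Localization.Away g)) = nn (A2 M) :=
    IsLocalization.under_map_of_isPrime_disjoint (Submonoid.powers g) (Localization.Away g)
      inferInstance hdisj
  have hloc1 : IsLocalization.AtPrime
      (Localization.AtPrime ((nn (A2 M)).map (algebraMap (A2 M) (Localization.Away g))))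
      (((nn (A2 M)).map (algebraMap (A2 M) (Localization.Away g))).comap
        (algebraMap (A2 M) (Localization.Away g))) :=
    IsLocalization.isLocalization_isLocalization_atPrime_isLocalization (Submonoid.powers g) _
      ((nn (A2 M)).map (algebraMap (A2 M) (Localization.Away g)))
  have hsub : (((nn (A2 M)).map (algebraMap (A2 M) (Localization.Away g))).comap
      (algebraMap (A2 M) (Localization.Away g))).primeCompl = (nn (A2 M)).primeCompl := by
    ext x
    show x ∉ ((nn (A2 M)).map (algebraMap (A2 M) (Localization.Away g))).comap _ ↔ x ∉ nn (A2 M)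
    rw [hPc]
  have hloc2 : IsLocalization (nn (A2 M)).primeCompl
      (Localization.AtPrime ((nn (A2 M)).map (algebraMap (A2 M) (Localization.Away g)))) := by
    rw [← hsub]
    exact hloc1
  haveI := hloc2
  let e1 : Localization.AtPrime (nn (A2 M)) ≃ₐ[A2 M]
      Localization.AtPrime ((nn (A2 M)).map (algebraMap (A2 M) (Localization.Away g))) :=
    IsLocalization.algEquiv (nn (A2 M)).primeCompl _ _
  refine ⟨Localization.Away g, inferInstance, inferInstance,
    (nn (A2 M)).map (algebraMap (A2 M) (Localization.Away g)), hPprime, hEt, ?_,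
    ⟨e0.symm.trans (e1.restrictScalars A)⟩⟩
  rw [IsScalarTower.algebraMap_eq A (A2 M) (Localization.Away g), ← Ideal.comap_comap, hPc, hcomap]

end Core

end Groth.Agent.Helper7.NormInt
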