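import Mathlib
import Groth.Prelude
import Groth.Agent.Lib.Helper7.NormInt.Core
import Groth.Agent.Lib.Lead.GUnib1
import Groth.Agent.Lib.Helper7.SHens.Unique
import Groth.Agent.Lib.Helper7.SHens.Noeth

/-!
# Normal local intermediate rings of a strict henselization of a normal local domain
-/

set_option linter.style.haveILetI false
set_option linter.unusedVariables false
set_option linter.unusedSectionVars false
set_option autoImplicit false
set_option backward.isDefEq.respectTransparency.types false
set_option backward.isDefEq.respectTransparency false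
set_option synthInstance.maxHeartbeats 400000
set_option maxHeartbeats 1600000

open Polynomial IsLocalRing TensorProduct

namespace Groth.Agent.Helper7.NormInt

universe u

open Groth.Agent.Helper7.SHens Groth.Agent.Lead.GUnib

section Stage

variable {A : Type u} [CommRing A] {K : Type u} [Field K] [Algebra A K]

theorem faithfullyFlat_locMap' (U : Nbhd A K) :
    letI : Algebra U.Loc (G A K) := (locMap U).toAlgebra
    Module.FaithfullyFlat U.Loc (G A K) := by
  letI : Algebra U.Ring (G A K) := stageAlgebra U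
  have hflat : Module.Flat U.Ring (G A K) := flat_stage U (fun _ => rfl)
  letI : Algebra U.Loc (G A K) := (locMap U).toAlgebra
  haveI : IsScalarTower U.Ring U.Loc (G A K) :=
    IsScalarTower.of_algebraMap_eq (fun x => (locMap_algebraMap U x).symm)
  have hflat' : Module.Flat U.Loc (G A K) :=
    (Module.flat_iff_of_isLocalization U.Loc U.q.primeCompl (G A K)).mpr hflat
  haveI : IsLocalHom (algebraMap U.Loc (G A K)) := isLocalHom_locMap U
  exact Module.FaithfullyFlat.of_flat_of_isLocalHom (A := U.Loc) (B := G A K)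

theorem exists_rep_finset' (s : Finset (G A K)) :
    ∃ U : Nbhd A K, ∀ c ∈ s, ∃ x : U.Ring, ι U x = c := by
  classical
  induction s using Finset.induction_on with
  | empty => exact ⟨Nbhd.base A K, fun c hc => absurd hc (Finset.notMem_empty c)⟩
  | insert c s hcs ih =>
    obtain ⟨U, hU⟩ := ih
    obtain ⟨Y, y, hy⟩ := exists_rep c
    obtain ⟨Z, f, g, -⟩ := Nbhd.exists_cocone_objs U Y
    refine ⟨Z, ?_⟩
    intro d hd
    rcases Finset.mem_insert.mp hd with rfl | hd
    · exact ⟨(g : Nbhd.Hom Y Z).toAlgHom y, (ι_hom g y).trans hy⟩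
    · obtain ⟨x, hx⟩ := hU d hd
      exact ⟨(f : Nbhd.Hom U Z).toAlgHom x, (ι_hom f x).trans hx⟩

end Stage

theorem main_strong (A S : Type u) [CommRing A] [IsLocalRing A] [IsDomain A]
    [IsIntegrallyClosed A] [IsNoetherianRing A] [CommRing S] [IsLocalRing S] [Algebra A S]
    [IsLocalHom (algebraMap A S)] [Hensel.IsStrictHenselization A S] (D : Subalgebra A S)
    [IsLocalHom (algebraMap D S)] [IsDomain D] [IsIntegrallyClosed D]
    (s : Finset S) (hs : (s : Set S) ⊆ (D : Set S)) :
    ∃ D' : Subalgebra A S, D' ≤ D ∧ (s : Set S) ⊆ (D' : Set S) ∧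
      (∃ _ : IsLocalRing D', IsLocalHom (algebraMap D' S) ∧ EGA4loc.IsEssentiallyEtale A D') ∧
      ∀ x b : S, b ∈ D' → b ≠ 0 → x * b ∈ D' → x ∈ D' := by
  classical
  obtain ⟨hSdom, -⟩ := (normal_iff_of_isStrictHenselization A S).mpr
    ⟨inferInstance, inferInstance⟩
  haveI := hSdom
  obtain ⟨e, -⟩ := exists_algEquiv_Model A S
  obtain ⟨U, hU⟩ := exists_rep_finset' (s.image e)
  obtain ⟨hTdom, hTic⟩ := normal_loc U
  haveI := hTdom
  haveI := hTic
  -- the map `φ`
  have hφA : ∀ a : A, ((e.symm : Model A S →+* S).comp (locMap U)).toFun (algebraMap A U.Loc a) =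
      algebraMap A S a := by
    intro a
    show e.symm (locMap U (algebraMap A U.Loc a)) = _
    rw [IsScalarTower.algebraMap_apply A U.Ring U.Loc, locMap_algebraMap, ι_algebraMap,
      e.symm.commutes]
  let φ : U.Loc →ₐ[A] S :=
    { ((e.symm : Model A S →+* S).comp (locMap U)) with commutes' := hφA }
  have hφ : ∀ t, φ t = e.symm (locMap U t) := fun _ => rfl
  have hφinj : Function.Injective φ := fun x y h => locMap_injective U (e.symm.injective h)
  have hφunit : ∀ t, IsUnit (φ t) → IsUnit t := by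
    intro t ht
    haveI := isLocalHom_locMap U
    have h1 : IsUnit (locMap U t) := by
      have h2 := ht.map e
      rwa [hφ, e.apply_symm_apply] at h2
    exact isUnit_of_map_unit (locMap U) t h1
  haveI : IsLocalHom (algebraMap A U.Loc) := by
    constructor
    intro a ha
    have h1 : IsUnit (φ (algebraMap A U.Loc a)) := ha.map φ
    rw [φ.commutes] at h1
    exact isUnit_of_map_unit (algebraMap A S) a h1
  have hφsat : ∀ (x : S) (a b : U.Loc), b ≠ 0 → x * φ b = φ a → ∃ t, a = t * b ∧ φ t = x := by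
    intro x a b hb hx
    letI : Algebra U.Loc (Model A S) := (locMap U).toAlgebra
    haveI : Module.FaithfullyFlat U.Loc (Model A S) := faithfullyFlat_locMap' U
    have h1 : locMap U a = e x * locMap U b := by
      have h2 := congrArg e hx
      rw [map_mul, hφ, hφ, e.apply_symm_apply, e.apply_symm_apply] at h2
      exact h2.symm
    have h3 : locMap U a ∈ (Ideal.span {b}).map (algebraMap U.Loc (Model A S)) := by
      rw [h1]
      exact Ideal.mul_mem_left _ _ (Ideal.mem_map_of_mem _ (Ideal.mem_span_singleton_self b))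
    have h2 : a ∈ ((Ideal.span {b}).map (algebraMap U.Loc (Model A S))).comap
        (algebraMap U.Loc (Model A S)) := h3
    rw [Ideal.comap_map_eq_self_of_faithfullyFlat] at h2
    obtain ⟨t, ht⟩ := Ideal.mem_span_singleton'.mp h2
    refine ⟨t, ht.symm, ?_⟩
    have h4 : φ t * φ b = x * φ b := by rw [← map_mul, ht, hx]
    have hb' : φ b ≠ 0 := fun h0 => hb (hφinj (h0.trans (map_zero φ).symm))
    exact mul_right_cancel₀ hb' h4
  -- the subalgebra `M`
  let M : Subalgebra A U.Loc := D.comap φ
  have hM1 : ∀ t b : U.Loc, b ∈ M → b ≠ 0 → t * b ∈ M → IsIntegral A t → t ∈ M := by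
    intro t b hb hb0 htb hint
    obtain ⟨p, hp, hpt⟩ := hint
    let c : D := ⟨φ (t * b), htb⟩
    let d : D := ⟨φ b, hb⟩
    have hb' : φ b ≠ 0 := fun h0 => hb0 (hφinj (h0.trans (map_zero φ).symm))
    have hd0 : d ≠ 0 := fun h0 => hb' (congrArg Subtype.val h0)
    have hP : (p.map (algebraMap A D)).Monic := hp.map _
    have hq : (p.map (algebraMap A S)).eval (φ t) = 0 := by
      rw [Polynomial.eval_map]
      have h2 := Polynomial.hom_eval₂ p (algebraMap A U.Loc) (φ : U.Loc →+* S) t
      rw [hpt, map_zero] at h2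
      rw [← φ.comp_algebraMap]
      exact h2.symm
    have h0 : ((p.map (algebraMap A D)).scaleRoots d).eval c = 0 := by
      apply Subtype.val_injective
      show algebraMap D S (((p.map (algebraMap A D)).scaleRoots d).eval c) = 0
      rw [map_eval_scaleRoots (algebraMap D S) _ hP, Polynomial.map_map,
        ← IsScalarTower.algebraMap_eq A D S]
      show ((p.map (algebraMap A S)).scaleRoots (φ b)).eval (φ (t * b)) = 0
      have h3 := Polynomial.scaleRoots_eval₂_mul (p := p.map (algebraMap A S)) (RingHom.id S)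
        (φ t) (φ b)
      simp only [RingHom.id_apply, Polynomial.eval₂_id] at h3
      rw [map_mul, mul_comm (φ t) (φ b), h3, hq, mul_zero]
    obtain ⟨y, hy⟩ := dvd_of_eval_scaleRoots_eq_zero _ hP c d hd0 h0
    have h4 : φ t * φ b = φ b * (y : S) := by
      have h5 := congrArg Subtype.val hy
      rw [← map_mul]
      exact h5
    have h5 : φ t = (y : S) := by
      apply mul_right_cancel₀ hb'
      rw [h4, mul_comm]
    show φ t ∈ D
    rw [h5]
    exact y.2
  have hM2 : ∀ t ∈ M, IsUnit t → ∃ u ∈ M, t * u = 1 := by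
    intro t ht hu
    obtain ⟨u, hu1⟩ := hu.exists_right_inv
    have hut : IsUnit (φ t) := hu.map φ
    have h1 : IsUnit (algebraMap D S ⟨φ t, ht⟩) := hut
    have h2 : IsUnit (⟨φ t, ht⟩ : D) := isUnit_of_map_unit (algebraMap D S) _ h1
    obtain ⟨v, hv⟩ := h2.exists_right_inv
    have h3 : φ t * (v : S) = 1 := congrArg Subtype.val hv
    have h4 : φ t * φ u = 1 := by rw [← map_mul, hu1, map_one]
    have h5 : φ u = (v : S) := hut.mul_left_cancel (h4.trans h3.symm)
    refine ⟨u, ?_, hu1⟩
    show φ u ∈ D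
    rw [h5]
    exact v.2
  obtain ⟨hEss, hLoc, hSat⟩ : EGA4loc.IsEssentiallyEtale A M ∧ IsLocalRing M ∧
      ∀ x b : U.Loc, b ∈ M → b ≠ 0 → x * b ∈ M → x ∈ M := core U.q M hM1 hM2
  haveI := hLoc
  refine ⟨M.map φ, ?_, ?_, ⟨(M.equivMapOfInjective φ hφinj).toRingEquiv.isLocalRing, ?_, ?_⟩, ?_⟩
  · intro y hy
    obtain ⟨t, ht, rfl⟩ := Subalgebra.mem_map.mp hy
    exact ht
  · intro c hc
    have hcD : c ∈ D := hs hc
    obtain ⟨x, hx⟩ := hU (e c) (Finset.mem_image_of_mem e (Finset.mem_coe.mp hc))
    have h1 : φ (algebraMap U.Ring U.Loc x) = c := by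
      rw [hφ, locMap_algebraMap, hx, e.symm_apply_apply]
    refine Subalgebra.mem_map.mpr ⟨algebraMap U.Ring U.Loc x, ?_, h1⟩
    show φ (algebraMap U.Ring U.Loc x) ∈ D
    rw [h1]
    exact hcD
  · constructor
    rintro ⟨y, hy⟩ hu
    obtain ⟨t, ht, rfl⟩ := Subalgebra.mem_map.mp hy
    have h1 : IsUnit (φ t) := hu
    have h2 := hφunit t h1
    obtain ⟨u, huM, hu1⟩ := hM2 t ht h2
    refine isUnit_iff_exists_inv.mpr ⟨⟨φ u, Subalgebra.mem_map.mpr ⟨u, huM, rfl⟩⟩, ?_⟩
    apply Subtype.ext
    show φ t * φ u = 1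
    rw [← map_mul, hu1, map_one]
  · obtain ⟨C, i1, i2, q, i3, hEt, hq, ⟨f⟩⟩ := hEss
    exact ⟨C, i1, i2, q, i3, hEt, hq, ⟨(M.equivMapOfInjective φ hφinj).symm.trans f⟩⟩
  · intro x b hb hb0 hxb
    obtain ⟨b₀, hb₀, rfl⟩ := Subalgebra.mem_map.mp hb
    obtain ⟨a₀, ha₀, ha⟩ := Subalgebra.mem_map.mp hxb
    have hb₀0 : b₀ ≠ 0 := fun h => hb0 (by rw [h, map_zero])
    obtain ⟨t, hta, htx⟩ := hφsat x a₀ b₀ hb₀0 ha.symm
    have htM : t ∈ M := hSat t b₀ hb₀ hb₀0 (by rw [← hta]; exact ha₀)
    exact Subalgebra.mem_map.mpr ⟨t, htM, htx⟩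

/-- The finitely generated case: the intermediate ring itself is essentially étale. -/
theorem main_fg (A S : Type u) [CommRing A] [IsLocalRing A] [IsDomain A]
    [IsIntegrallyClosed A] [IsNoetherianRing A] [CommRing S] [IsLocalRing S] [Algebra A S]
    [IsLocalHom (algebraMap A S)] [Hensel.IsStrictHenselization A S] (D : Subalgebra A S)
    [IsLocalHom (algebraMap D S)] [IsDomain D] [IsIntegrallyClosed D]
    (hfg : ∃ s : Finset D, Subfield.closure (Set.range (algebraMap A (FractionRing D)) ∪
        (algebraMap D (FractionRing D)) '' (s : Set D)) = ⊤) :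
    EGA4loc.IsEssentiallyEtale A D := by
  classical
  obtain ⟨s, hs⟩ := hfg
  obtain ⟨D', hle, hsub, ⟨hloc, hlh, hess⟩, hsat⟩ := main_strong A S D
    (s.image (fun d : D => (d : S))) (by
      intro c hc
      obtain ⟨d, -, rfl⟩ := Finset.mem_image.mp (Finset.mem_coe.mp hc)
      exact d.2)
  have key : ∀ z ∈ Subfield.closure (Set.range (algebraMap A (FractionRing D)) ∪
      (algebraMap D (FractionRing D)) '' (s : Set D)),
      ∃ a b : D, (a : S) ∈ D' ∧ (b : S) ∈ D' ∧ b ≠ 0 ∧
        z * algebraMap D (FractionRing D) b = algebraMap D (FractionRing D) a := by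
    intro z hz
    induction hz using Subfield.closure_induction with
    | mem z hz =>
      rcases hz with ⟨r, rfl⟩ | ⟨d, hd, rfl⟩
      · refine ⟨algebraMap A D r, 1, D'.algebraMap_mem r, D'.one_mem, one_ne_zero, ?_⟩
        rw [map_one, mul_one, ← IsScalarTower.algebraMap_apply]
      · refine ⟨d, 1, ?_, D'.one_mem, one_ne_zero, by rw [map_one, mul_one]⟩
        exact hsub (Finset.mem_coe.mpr (Finset.mem_image_of_mem _ (Finset.mem_coe.mp hd)))
    | one => exact ⟨1, 1, D'.one_mem, D'.one_mem, one_ne_zero, by rw [map_one, mul_one]⟩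
    | add x y _ _ hx hy =>
      obtain ⟨a, b, ha, hb, hb0, hab⟩ := hx
      obtain ⟨a', b', ha', hb', hb0', hab'⟩ := hy
      refine ⟨a * b' + a' * b, b * b', D'.add_mem (D'.mul_mem ha hb') (D'.mul_mem ha' hb),
        D'.mul_mem hb hb', mul_ne_zero hb0 hb0', ?_⟩
      rw [map_mul, map_add, map_mul, map_mul, ← hab, ← hab']
      ring
    | neg x _ hx =>
      obtain ⟨a, b, ha, hb, hb0, hab⟩ := hx
      refine ⟨-a, b, D'.neg_mem ha, hb, hb0, ?_⟩
      rw [map_neg, ← hab]
      ring
    | inv x _ hx =>
      obtain ⟨a, b, ha, hb, hb0, hab⟩ := hx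
      by_cases ha0 : a = 0
      · have hx0 : x = 0 := by
          rw [ha0, map_zero] at hab
          rcases mul_eq_zero.mp hab with h | h
          · exact h
          · exact absurd ((IsFractionRing.injective D (FractionRing D)) (h.trans (map_zero _).symm))
              hb0
        refine ⟨0, 1, D'.zero_mem, D'.one_mem, one_ne_zero, ?_⟩
        rw [hx0, inv_zero, zero_mul, map_zero]
      · refine ⟨b, a, hb, ha, ha0, ?_⟩
        have hb' : algebraMap D (FractionRing D) b ≠ 0 := fun h =>
          hb0 ((IsFractionRing.injective D (FractionRing D)) (h.trans (map_zero _).symm))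
        have ha' : algebraMap D (FractionRing D) a ≠ 0 := fun h =>
          ha0 ((IsFractionRing.injective D (FractionRing D)) (h.trans (map_zero _).symm))
        have hx0 : x ≠ 0 := by
          intro h
          rw [h, zero_mul] at hab
          exact ha' hab.symm
        rw [← hab]
        field_simp
    | mul x y _ _ hx hy =>
      obtain ⟨a, b, ha, hb, hb0, hab⟩ := hx
      obtain ⟨a', b', ha', hb', hb0', hab'⟩ := hy
      refine ⟨a * a', b * b', D'.mul_mem ha ha', D'.mul_mem hb hb', mul_ne_zero hb0 hb0', ?_⟩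
      rw [map_mul, map_mul, ← hab, ← hab']
      ring
  have hge : D ≤ D' := by
    intro x hx
    have hx' : algebraMap D (FractionRing D) ⟨x, hx⟩ ∈
        Subfield.closure (Set.range (algebraMap A (FractionRing D)) ∪
          (algebraMap D (FractionRing D)) '' (s : Set D)) := by
      rw [hs]
      trivial
    obtain ⟨a, b, ha, hb, hb0, hab⟩ := key _ hx'
    have h1 : (⟨x, hx⟩ : D) * b = a :=
      IsFractionRing.injective D (FractionRing D) (by rw [map_mul]; exact hab)
    have h2 : x * (b : S) = (a : S) := congrArg Subtype.val h1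
    exact hsat x b hb (fun h0 => hb0 (Subtype.ext h0)) (by rw [h2]; exact ha)
  have heq : D' = D := le_antisymm hle hge
  subst heq
  exact hess

end Groth.Agent.Helper7.NormInt
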